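import Mathlib.LinearAlgebra.FiniteDimensional.Basic
import Mathlib.LinearAlgebra.FiniteDimensional.Lemmas
import Mathlib.Data.Set.Finite.Basic

/-!
# A diagonal subset defeating countable-dimensional families of tests

Given subspaces `L n` of a countable-dimensional space `M`, elements `g n` and a countable
dimensional space `A` of operators, there is `S ⊆ ℕ` such that the partial sums of `g` over `S` are
not eventually congruent modulo `L n` to a single transformed element.
-/

set_option autoImplicit false

namespace Groth.Agent.H68.LimQuot.Diag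

open Submodule

variable {k M A : Type*} [Field k] [AddCommGroup M] [Module k M] [AddCommGroup A] [Module k A]

lemma exists_stage (u : ℕ → M) (hu : span k (Set.range u) = ⊤) (x : M) :
    ∃ l : ℕ, ∀ l', l ≤ l' → x ∈ span k (u '' Set.Iio l') := by
  obtain ⟨c, rfl⟩ := (Finsupp.mem_span_range_iff_exists_finsupp).1
    (show x ∈ span k (Set.range u) from hu ▸ mem_top)
  refine ⟨c.support.sup id + 1, fun l' hl => sum_mem fun i hi => smul_mem _ _ (subset_span ?_)⟩
  exact ⟨i, lt_of_lt_of_le (Nat.lt_succ_of_le (Finset.le_sup (f := id) hi)) hl, rfl⟩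

/-- A finite-dimensional subspace meets finitely many `L n` inside a further one. -/
lemma exists_step (L : ℕ → Submodule k M) (V : Submodule k M) [FiniteDimensional k V] (s : ℕ) :
    ∃ j, ∀ v ∈ V, (∀ n, s ≤ n → n < s + j → v ∈ L n) → v ∈ L (s + j) := by
  classical
  let W : ℕ → Submodule k M := fun j => V ⊓ ⨅ n ∈ Finset.Ico s (s + j), L n
  haveI : ∀ j, FiniteDimensional k (W j) := fun j =>
    Submodule.finiteDimensional_of_le (inf_le_left : W j ≤ V)
  have hmem : ∀ j v, v ∈ W j ↔ v ∈ V ∧ ∀ n, s ≤ n → n < s + j → v ∈ L n := fun j v => by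
    simp [W, Submodule.mem_iInf]
  by_contra hne
  push Not at hne
  have hlt : ∀ j, W (j + 1) < W j := fun j => by
    obtain ⟨v, hvV, hv, hvn⟩ := hne j
    refine lt_of_le_of_ne (fun x hx => (hmem _ _).2 ⟨((hmem _ _).1 hx).1,
      fun n h h' => ((hmem _ _).1 hx).2 n h (by omega)⟩) fun e => hvn ?_
    have : v ∈ W (j + 1) := e ▸ (hmem _ _).2 ⟨hvV, hv⟩
    exact ((hmem _ _).1 this).2 _ (by omega) (by omega)
  have hdim : ∀ j, Module.finrank k (W j) + j ≤ Module.finrank k (W 0) := fun j => by
    induction j with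
    | zero => simp
    | succ j ih =>
      have := Submodule.finrank_lt_finrank_of_lt (hlt j)
      omega
  have := hdim (Module.finrank k (W 0) + 1)
  omega

/-- The diagonal subset. -/
theorem exists_set (μ : A →ₗ[k] M →ₗ[k] M) (u : ℕ → M) (hu : span k (Set.range u) = ⊤)
    (a : ℕ → A) (ha : span k (Set.range a) = ⊤) (g : ℕ → M) (L : ℕ → Submodule k M) :
    ∃ S : Set ℕ, ∀ (m : M) (t : A) (n₀ : ℕ), ∃ n, n₀ ≤ n ∧
      (μ t (g n) ∈ L n ∨
        m - μ t (∑ i ∈ Finset.range (n + 1), S.indicator g i) ∉ L n) := by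
  classical
  let V : ℕ → M → Submodule k M := fun l P =>
    span k (u '' Set.Iio l) ⊔ span k ((fun j => μ (a j) P) '' Set.Iio l)
  haveI hV : ∀ l P, FiniteDimensional k (V l P) := fun l P => by
    haveI := FiniteDimensional.span_of_finite k ((Set.finite_Iio l).image u)
    haveI := FiniteDimensional.span_of_finite k ((Set.finite_Iio l).image fun j => μ (a j) P)
    exact Submodule.finiteDimensional_sup _ _
  let J : ℕ → ℕ × M → ℕ := fun l p => Classical.choose (exists_step L (V l p.2) p.1)
  have hJ := fun l (p : ℕ × M) => Classical.choose_spec (exists_step L (V l p.2) p.1)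
  let st : ℕ → ℕ × M := fun l => Nat.rec (0, 0) (fun l p => (p.1 + J l p + 1, p.2 + g (p.1 + J l p))) l
  let c : ℕ → ℕ := fun l => (st l).1 + J l (st l)
  have hst : ∀ l, (st (l + 1)).1 = c l + 1 := fun l => rfl
  have hst2 : ∀ l, (st (l + 1)).2 = (st l).2 + g (c l) := fun l => rfl
  have hle : ∀ l, l ≤ (st l).1 := fun l => by
    induction l with
    | zero => exact Nat.zero_le _
    | succ l ih => rw [hst]; exact Nat.succ_le_succ (ih.trans (Nat.le_add_right _ _))
  have hmono : StrictMono c := strictMono_nat_of_lt_succ fun l =>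
    show c l < (st (l + 1)).1 + J (l + 1) (st (l + 1)) by rw [hst]; omega
  let S : Set ℕ := Set.range c
  have hgap : ∀ l i, (st l).1 ≤ i → i < c l → i ∉ S := by
    rintro l i h1 h2 ⟨j, rfl⟩
    rcases Nat.lt_trichotomy j l with h | h | h
    · obtain ⟨l, rfl⟩ := Nat.exists_eq_succ_of_ne_zero (Nat.ne_of_gt (Nat.zero_lt_of_lt h))
      rw [Nat.succ_eq_add_one, hst] at h1
      have := hmono.monotone (Nat.le_of_lt_succ h)
      omega
    · subst h; omega
    · have := hmono h; omega
  let f := Set.indicator S g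
  have hflat : ∀ l n, (st l).1 ≤ n → n ≤ c l →
      ∑ i ∈ Finset.range n, f i = ∑ i ∈ Finset.range (st l).1, f i := by
    intro l n h1 h2
    induction n, h1 using Nat.le_induction with
    | base => rfl
    | succ n h1 ih =>
      rw [Finset.sum_range_succ, ih (by omega), show f n = 0 from
        Set.indicator_of_notMem (hgap l n h1 (by omega)) _, add_zero]
  have hsum : ∀ l, ∑ i ∈ Finset.range (st l).1, f i = (st l).2 := fun l => by
    induction l with
    | zero => rfl
    | succ l ih =>
      rw [hst, Finset.sum_range_succ, hflat l (c l) (Nat.le_add_right _ _) le_rfl, ih, hst2,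
        show f (c l) = g (c l) from Set.indicator_of_mem (Set.mem_range_self l) _]
  refine ⟨S, fun m t n₀ => ?_⟩
  obtain ⟨lm, hlm⟩ := exists_stage u hu m
  obtain ⟨lt, hlt⟩ := exists_stage a ha t
  by_contra hcon
  push Not at hcon
  let l := max n₀ (max lm lt)
  have hn₀ : n₀ ≤ (st l).1 := (le_max_left _ _).trans (hle l)
  have hv : m - μ t (st l).2 ∈ V l (st l).2 := by
    refine sub_mem (mem_sup_left (hlm l ((le_max_left _ _).trans (le_max_right _ _)))) (mem_sup_right ?_)
    have h := Submodule.apply_mem_span_image_of_mem_span (μ.flip (st l).2)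
      (hlt l ((le_max_right _ _).trans (le_max_right _ _)))
    rw [Set.image_image] at h
    exact h
  have hcL : m - μ t (st l).2 ∈ L (c l) := hJ l (st l) _ hv fun n h1 h2 => by
    have := (hcon n (hn₀.trans h1)).2
    rwa [hflat l (n + 1) (by omega) (Nat.succ_le_of_lt h2), hsum] at this
  have h2 := (hcon (c l) (hn₀.trans (Nat.le_add_right _ _))).2
  rw [Finset.sum_range_succ, hflat l (c l) (Nat.le_add_right _ _) le_rfl, hsum,
    Set.indicator_of_mem (Set.mem_range_self l), map_add] at h2
  refine (hcon (c l) (hn₀.trans (Nat.le_add_right _ _))).1 ?_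
  have := sub_mem hcL h2
  rwa [show m - μ t (st l).2 - (m - (μ t (st l).2 + μ t (g (c l)))) = μ t (g (c l)) from by abel] at this

end Groth.Agent.H68.LimQuot.Diag
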