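import Groth.Agent.H68.LimQuot.Main
import Groth.Agent.Lib.CohBasics.Closure

/-!
# Countably quasi-coherent limits
-/

set_option autoImplicit false
universe u

open CategoryTheory CategoryTheory.Limits AlgebraicGeometry Opposite
open Groth.Agent.Lib.QCoh

namespace Groth.Agent.H68.LimQuot.Image

variable {X : Scheme.{u}}

lemma isQCoh_image {M N : X.Modules} (f : M ⟶ N) [M.IsQuasicoherent] [N.IsQuasicoherent] :
    (Limits.image f).IsQuasicoherent := by
  haveI := Closure.isQCoh_kernel f
  have w : kernel.ι f ≫ factorThruImage f = 0 := by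
    rw [← cancel_mono (image.ι f), Category.assoc, image.fac, kernel.condition, zero_comp]
  let S := ShortComplex.mk (kernel.ι f) (factorThruImage f) w
  have hS : S.Exact := S.exact_of_f_is_kernel (KernelFork.IsLimit.ofι _ _
    (fun g hg => kernel.lift f g (by rw [← image.fac f, reassoc_of% hg, zero_comp]))
    (fun g hg => kernel.lift_ι _ _ _)
    (fun g hg m hm => by rw [← cancel_mono (kernel.ι f), kernel.lift_ι]; exact hm))
  haveI : Epi S.g := inferInstanceAs (Epi (factorThruImage f))
  haveI : S.X₁.IsQuasicoherent := ‹(kernel f).IsQuasicoherent›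
  haveI : S.X₂.IsQuasicoherent := ‹M.IsQuasicoherent›
  exact Closure.isQCoh_of_exact_epi hS

variable (k : Type u) [Field k] [X.Over (Spec (CommRingCat.of k))]
  [LocallyOfFiniteType (X ↘ Spec (CommRingCat.of k))] [CompactSpace X]

include k in
theorem limit_countably_qcoh (F : ℕᵒᵖ ⥤ X.Modules) (hF : ∀ n : ℕ, (F.obj (op n)).IsQuasicoherent)
    (G : X.Modules) (hG : G.IsQuasicoherent)
    (hGc : ∀ U : X.affineOpens, ∃ s : Set (G.val.obj (op (U : X.Opens))),
        s.Countable ∧ Submodule.span (X.ringCatSheaf.obj.obj (op (U : X.Opens))) s = ⊤)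
    (φ : G ⟶ limit F) [Epi φ] :
    Coh.IsQCoh (limit F) ∧
      (∀ U : X.affineOpens, ∃ s : Set ((limit F).val.obj (op (U : X.Opens))),
        s.Countable ∧ Submodule.span (X.ringCatSheaf.obj.obj (op (U : X.Opens))) s = ⊤) ∧
      (Coh.IsCoh G → Coh.IsCoh (limit F)) := by
  haveI := hF
  haveI := hG
  let ar : ℕᵒᵖ ⥤ Arrow X.Modules :=
    { obj := fun j => Arrow.mk (φ ≫ limit.π F j)
      map := fun {i j} f => Arrow.homMk (𝟙 _) (F.map f) (by simp)
      map_id := fun j => Arrow.hom_ext _ _ rfl (F.map_id j)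
      map_comp := fun f g => Arrow.hom_ext _ _ (Category.comp_id _).symm (F.map_comp f g) }
  let Q : ℕᵒᵖ ⥤ X.Modules := ar ⋙ im
  let ιQ : Q ⟶ F :=
    { app := fun j => image.ι (φ ≫ limit.π F j)
      naturality := fun i j f => image.map_ι _ }
  let c : Cone Q :=
    { pt := G
      π :=
      { app := fun j => factorThruImage (φ ≫ limit.π F j)
        naturality := fun i j f => by
          show 𝟙 G ≫ _ = _ ≫ image.map (ar.map f)
          rw [Category.id_comp]
          exact ((image.factor_map (ar.map f)).trans (Category.id_comp _)).symm } }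
  haveI : ∀ j : ℕᵒᵖ, Mono (ιQ.app j) := fun j => inferInstanceAs (Mono (image.ι _))
  have hlift : limit.lift Q c ≫ limMap ιQ = φ := limit.hom_ext fun j => by
    rw [Category.assoc, limMap_π, limit.lift_π_assoc]
    exact image.fac _
  haveI : Mono (limMap ιQ) := inferInstance
  haveI : Epi (limit.lift Q c ≫ limMap ιQ) := hlift.symm ▸ ‹Epi φ›
  haveI : Epi (limMap ιQ) := epi_of_epi (limit.lift Q c) _
  haveI : IsIso (limMap ιQ) := isIso_of_mono_of_epi _
  have hlim : Epi (limit.lift Q c) := by
    have : limit.lift Q c = φ ≫ inv (limMap ιQ) := by rw [← hlift, Category.assoc, IsIso.hom_inv_id, Category.comp_id]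
    rw [this]
    infer_instance
  obtain ⟨N, hN⟩ := Main.eventually_isIso k Q (fun n => @isQCoh_image _ _ _ (φ ≫ limit.π F (op n)) hG (hF n)) c hG hGc
    (fun n => inferInstanceAs (Epi (factorThruImage _))) hlim
  -- beyond `N` the tower is constant
  have hiso : ∀ (n : ℕ) (h : N ≤ n), IsIso (Q.map (homOfLE h).op) := by
    intro n h
    induction n, h using Nat.le_induction with
    | base =>
      rw [show (homOfLE (le_refl N)).op = 𝟙 (op N) from rfl, Q.map_id]
      infer_instance
    | succ n h ih =>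
      rw [show (homOfLE (h.trans (Nat.le_succ n))).op = (homOfLE (Nat.le_succ n)).op ≫ (homOfLE h).op from rfl,
        Q.map_comp]
      haveI := hN n h
      infer_instance
  have hker : kernel.ι (c.π.app (op N)) ≫ limit.lift Q c = 0 := by
    refine limit.hom_ext fun j => ?_
    obtain ⟨n⟩ := j
    rw [Category.assoc, limit.lift_π, zero_comp]
    rcases le_total N n with h | h
    · haveI := hiso n h
      rw [← cancel_mono (Q.map (homOfLE h).op), Category.assoc, zero_comp, c.w, kernel.condition]
    · rw [← c.w (homOfLE h).op, ← Category.assoc, kernel.condition, zero_comp]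
  haveI : Epi (c.π.app (op N)) := inferInstanceAs (Epi (factorThruImage _))
  let hcok := Abelian.epiIsCokernelOfKernel _ (kernelIsKernel (c.π.app (op N)))
  let h' : Q.obj (op N) ⟶ limit Q := hcok.desc (CokernelCofork.ofπ (limit.lift Q c) hker)
  have hh' : c.π.app (op N) ≫ h' = limit.lift Q c := Cofork.IsColimit.π_desc hcok
  haveI : Epi h' := by
    haveI := hlim
    exact epi_of_epi_fac hh'
  haveI : Mono h' := by
    have h2 : h' ≫ limit.π Q (op N) = 𝟙 _ := by
      rw [← cancel_epi (c.π.app (op N)), ← Category.assoc, hh', limit.lift_π, Category.comp_id]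
    exact (SplitMono.mk _ h2).mono
  haveI : IsIso h' := isIso_of_mono_of_epi _
  haveI : (Q.obj (op N)).IsQuasicoherent := @isQCoh_image _ _ _ (φ ≫ limit.π F (op N)) hG (hF N)
  haveI hq : (limit F).IsQuasicoherent :=
    Groth.Agent.Lib.CohBasics.Closure.isQCoh_of_iso (asIso h' ≪≫ asIso (limMap ιQ))
  refine ⟨hq, fun U => ?_, fun hc => Groth.Agent.Lib.CohBasics.Closure.isCoh_of_epi φ hc⟩
  obtain ⟨s, hs, hspan⟩ := hGc U
  let l := Groth.Agent.Lib.CohBasics.Affine.secₗ φ U.1
  refine ⟨l '' s, hs.image _, ?_⟩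
  have hspan' : Submodule.span Γ(X, U.1) (s : Set Γ(G, U.1)) = ⊤ := hspan
  show Submodule.span Γ(X, U.1) (l '' s : Set Γ(limit F, U.1)) = ⊤
  refine (Submodule.span_image l).trans ((congrArg (Submodule.map l) hspan').trans ?_)
  refine (Submodule.map_top l).trans (LinearMap.range_eq_top.2 ?_)
  exact Groth.Agent.Lib.QCoh.Closure.sections_surjective_of_epi φ U.2

end Groth.Agent.H68.LimQuot.Image
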