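import Groth.Prelude.Def_Coh
import Groth.Agent.H68.LimQuot.Diag
import Groth.Agent.Lib.QCoh.Closure
import Groth.Agent.Lib.Modules.Stalk
import Groth.Agent.Lib.Modules.StalkModule
import Mathlib.AlgebraicGeometry.Noetherian
import Mathlib.RingTheory.Finiteness.Basic
import Mathlib.Data.Nat.Nth
import Mathlib.Data.Finsupp.Encodable
import Mathlib.Data.Countable.Basic

/-!
# A complete filtration on a countably generated quasi-coherent module is finite

If `G → lim G/Hₙ` is an epimorphism, `G` countably generated quasi-coherent on a scheme of finite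
type over a field, the quotients `G/Hₙ` are eventually constant.
-/

set_option autoImplicit false
universe u

open CategoryTheory CategoryTheory.Limits AlgebraicGeometry Opposite TopologicalSpace
open Groth.Agent.Lib.QCoh Groth.Agent.Lib.QCoh.Localizing Groth.Agent.Lib.Modules

namespace Groth.Agent.H68.LimQuot.Main

variable {X : Scheme.{u}}

/-- A transition map which is not injective near a point of an affine open `U` has a kernel section
over `U` with nonzero germ at that point. -/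
lemma exists_kernel_section {M N : X.Modules} [M.IsQuasicoherent] [N.IsQuasicoherent] (φ : M ⟶ N)
    {U : X.Opens} (hU : IsAffineOpen U) {x : X} (hx : x ∈ U)
    (hinj : ¬ Function.Injective ((Stalk.stalkFunctor X x).map φ)) :
    ∃ e : Γ(M, U), φ.app U e = 0 ∧ M.presheaf.germ U x hx e ≠ 0 := by
  rw [injective_iff_map_eq_zero] at hinj
  push Not at hinj
  obtain ⟨a, ha, ha0⟩ := hinj
  obtain ⟨V, hxV, s, rfl⟩ := M.presheaf.exists_germ_eq a
  rw [Stalk.stalkFunctor_map_germ] at ha
  obtain ⟨W, hxW, i₁, i₂, hW⟩ := N.presheaf.germ_eq x hxV hxV (φ.app V s) 0 (ha.trans (map_zero _).symm)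
  obtain ⟨f, hf, hxf⟩ := hU.exists_basicOpen_le (⟨x, hxW⟩ : W) hx
  have hfV : X.basicOpen f ≤ V := hf.trans i₁.le
  obtain ⟨k, t, ht⟩ := (localizes_of_isAffineOpen M hU f).ext' (res M hfV s)
  have h1 : res N hfV (φ.app V s) = 0 := by
    rw [← res_res i₁.le hf]
    rw [map_zero] at hW
    show res N hf (N.presheaf.map i₁.op (φ.app V s)) = 0
    rw [hW, map_zero]
  have h2 : res N (X.basicOpen_le f) (φ.app U t) = 0 := by
    rw [res_app, ht, Scheme.Modules.Hom.app_smul, ← res_app, h1, smul_zero]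
  obtain ⟨j, hj⟩ := (localizes_of_isAffineOpen N hU f).sep _ h2
  refine ⟨f ^ j • t, by rw [Scheme.Modules.Hom.app_smul, hj], fun h => ha0 ?_⟩
  have hu : IsUnit (X.presheaf.germ U x hx f) := (Scheme.mem_basicOpen X f x hx).1 hxf
  rw [StalkModule.germ_smul, map_pow, (hu.pow j).smul_eq_zero] at h
  have h3 : M.presheaf.germ (X.basicOpen f) x hxf (res M (X.basicOpen_le f) t) = 0 :=
    (TopCat.Presheaf.germ_res_apply _ _ _ _ _).trans h
  rw [ht, StalkModule.germ_smul, map_pow] at h3
  have hu' : IsUnit (X.presheaf.germ (X.basicOpen f) x hxf (resR (X.basicOpen_le f) f)) := by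
    show IsUnit (X.presheaf.germ _ x hxf (X.presheaf.map _ f))
    rwa [TopCat.Presheaf.germ_res_apply]
  rw [(hu'.pow k).smul_eq_zero] at h3
  exact (TopCat.Presheaf.germ_res_apply _ _ _ _ _).symm.trans h3

/-- Every element of a tower of sections is a section of the limit. -/
lemma exists_section_limit (Q : ℕᵒᵖ ⥤ X.Modules) (U : X.Opens) (s : ∀ n : ℕ, Γ(Q.obj (op n), U))
    (hs : ∀ {n m : ℕ} (h : n ≤ m), (Q.map (homOfLE h).op).app U (s m) = s n) :
    ∃ x : Γ(limit Q, U), ∀ n, (limit.π Q (op n)).app U x = s n := by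
  haveI : PreservesLimitsOfSize.{0, 0} (Closure.sectionsFunctor (X := X) U) :=
    preservesLimitsOfSize_shrink _
  haveI : PreservesLimitsOfSize.{0, 0} (forget AddCommGrpCat.{u}) := preservesLimitsOfSize_shrink _
  have hl := isLimitOfPreserves (Closure.sectionsFunctor (X := X) U ⋙ forget AddCommGrpCat.{u})
    (limit.isLimit Q)
  let σ : (Q ⋙ Closure.sectionsFunctor (X := X) U ⋙ forget AddCommGrpCat.{u}).sections :=
    ⟨fun j => s j.unop, fun {i j} f => by
      obtain ⟨i⟩ := i
      obtain ⟨j⟩ := j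
      have hle : j ≤ i := leOfHom f.unop
      rw [show f = (homOfLE hle).op from Quiver.Hom.unop_inj (Subsingleton.elim _ _)]
      exact hs hle⟩
  exact ⟨(Types.isLimitEquivSections hl).symm σ, fun n =>
    Types.isLimitEquivSections_symm_apply hl σ (op n)⟩

/-- The algebra structure over the ground field on functions is of finite type, so countably
spanned. -/
lemma exists_spanning_seq (k A : Type u) [Field k] [CommRing A] [Algebra k A]
    [hA : Algebra.FiniteType k A] (M : Type u) [AddCommGroup M] [Module A M] [Module k M]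
    [IsScalarTower k A M] (s : Set M) (hs : s.Countable) (hspan : Submodule.span A s = ⊤) :
    (∃ a : ℕ → A, Submodule.span k (Set.range a) = ⊤) ∧
      ∃ v : ℕ → M, Submodule.span k (Set.range v) = ⊤ := by
  obtain ⟨n, π, hπ⟩ := Algebra.FiniteType.iff_quotient_mvPolynomial''.1 hA
  let B : Set A := insert 0 (Set.range fun d : Fin n →₀ ℕ => π (MvPolynomial.monomial d 1))
  have hBc : B.Countable := (Set.countable_range _).insert _
  have hB : Submodule.span k B = ⊤ := by
    refine eq_top_iff.2 fun x _ => ?_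
    obtain ⟨p, rfl⟩ := hπ x
    induction p using MvPolynomial.induction_on' with
    | monomial d c =>
      rw [show MvPolynomial.monomial d c = c • MvPolynomial.monomial d (1 : k) by rw [MvPolynomial.smul_monomial, smul_eq_mul, mul_one], map_smul]
      exact Submodule.smul_mem _ _ (Submodule.subset_span (Or.inr ⟨d, rfl⟩))
    | add p q hp hq => rw [map_add]; exact add_mem (hp trivial) (hq trivial)
  obtain ⟨a, ha⟩ := hBc.exists_eq_range ⟨0, Or.inl rfl⟩
  let T : Set M := insert 0 (Set.image2 (· • ·) B s)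
  obtain ⟨v, hv⟩ := ((hBc.image2 hs (· • ·)).insert (0 : M)).exists_eq_range ⟨0, Or.inl rfl⟩
  refine ⟨⟨a, ha ▸ hB⟩, v, ?_⟩
  rw [← hv, Submodule.span_insert_zero, Set.image2_smul, Submodule.span_smul_of_span_eq_top hB, hspan,
    Submodule.restrictScalars_top]

variable (k : Type u) [Field k] [X.Over (Spec (CommRingCat.of k))]
  [LocallyOfFiniteType (X ↘ Spec (CommRingCat.of k))] [CompactSpace X]

include k in
theorem eventually_isIso (Q : ℕᵒᵖ ⥤ X.Modules) (hQ : ∀ n : ℕ, (Q.obj (op n)).IsQuasicoherent)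
    (c : Cone Q) (hG : c.pt.IsQuasicoherent)
    (hGc : ∀ U : X.affineOpens, ∃ s : Set (c.pt.val.obj (op (U : X.Opens))),
        s.Countable ∧ Submodule.span (X.ringCatSheaf.obj.obj (op (U : X.Opens))) s = ⊤)
    (hepi : ∀ n : ℕ, Epi (c.π.app (op n))) (hlim : Epi (limit.lift Q c)) :
    ∃ N : ℕ, ∀ n : ℕ, N ≤ n → IsIso (Q.map (homOfLE (Nat.le_succ n)).op) := by
  classical
  by_contra hne
  push Not at hne
  haveI := hQ
  let d (n : ℕ) := Q.map (homOfLE (Nat.le_succ n)).op
  have hbad : ∀ N, ∃ n ≥ N, ∃ x : X, ¬ Function.Injective ((Stalk.stalkFunctor X x).map (d n)) := by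
    intro N
    obtain ⟨n, hn, hni⟩ := hne N
    haveI := hepi n
    haveI : Epi (d n) := epi_of_epi_fac (c.w (homOfLE (Nat.le_succ n)).op)
    refine ⟨n, hn, ?_⟩
    by_contra hc
    push Not at hc
    haveI : Mono (d n) := (Stalk.mono_iff_stalk_injective _).2 hc
    exact hni (isIso_of_mono_of_epi (d n))
  obtain ⟨F, hF, hcov⟩ := isCompact_and_isOpen_iff_finite_and_eq_biUnion_affineOpens.mp
    ⟨(isCompact_univ : IsCompact (Set.univ : Set X)), isOpen_univ⟩
  let I (U : X.affineOpens) : Set ℕ :=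
    {n | ∃ x ∈ U.1, ¬ Function.Injective ((Stalk.stalkFunctor X x).map (d n))}
  obtain ⟨U, -, hUI⟩ : ∃ U ∈ F, (I U).Infinite := by
    by_contra hfin
    push Not at hfin
    obtain ⟨N, hN⟩ := (hF.biUnion fun U hU => hfin U hU).bddAbove
    obtain ⟨n, hn, x, hx⟩ := hbad (N + 1)
    obtain ⟨U, hU, hxU⟩ := Set.mem_iUnion₂.1 (hcov ▸ Set.mem_univ x)
    have := hN (Set.mem_iUnion₂.2 ⟨U, hU, x, hxU, hx⟩)
    omega
  have hsec : ∀ n ∈ I U, ∃ (z : X) (hz : z ∈ U.1) (g : Γ(c.pt, U.1)),
      (c.π.app (op n)).app U.1 g = 0 ∧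
      (Q.obj (op (n + 1))).presheaf.germ U.1 z hz ((c.π.app (op (n + 1))).app U.1 g) ≠ 0 := by
    rintro n ⟨x, hxU, hx⟩
    obtain ⟨e, he0, he⟩ := exists_kernel_section (d n) U.2 hxU hx
    haveI := hepi (n + 1)
    haveI := hG
    obtain ⟨g, rfl⟩ := @Closure.sections_surjective_of_epi _ c.pt (Q.obj (op (n + 1))) hG (hQ _)
      (c.π.app (op (n + 1))) (hepi (n + 1)) _ U.2 e
    refine ⟨x, hxU, g, ?_, he⟩
    rw [← he0, ← c.w (homOfLE (Nat.le_succ n)).op]
    rfl
  haveI : Nonempty X := let ⟨n, hn⟩ := hUI.nonempty; ⟨hn.choose⟩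
  choose! z hzU g hg0 hg using hsec
  -- a minimal closed set containing infinitely many of the points
  haveI : IsLocallyNoetherian X :=
    LocallyOfFiniteType.isLocallyNoetherian (X ↘ Spec (CommRingCat.of k))
  haveI : AlgebraicGeometry.IsNoetherian X := {}
  obtain ⟨Z, hZ, hmin⟩ := (wellFounded_lt : WellFounded ((· < ·) : Closeds X → Closeds X → Prop)).has_min
    {C | {n | n ∈ I U ∧ z n ∈ C}.Infinite} ⟨⊤, hUI.mono fun n hn => ⟨hn, trivial⟩⟩
  let p : ℕ → Prop := fun n => n ∈ I U ∧ z n ∈ Z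
  have hp : {n | p n}.Infinite := hZ
  let φ : ℕ → ℕ := Nat.nth p
  have hφI : ∀ i, φ i ∈ I U ∧ z (φ i) ∈ Z := Nat.nth_mem_of_infinite hp
  have hφm : StrictMono φ := Nat.nth_strictMono hp
  obtain ⟨y, hyU, hyZ⟩ : ∃ y, y ∈ U.1 ∧ y ∈ Z := ⟨z (φ 0), hzU _ (hφI 0).1, (hφI 0).2⟩
  -- the structure over the ground field
  let κ : k →+* Γ(X, U.1) :=
    ((X ↘ Spec (CommRingCat.of k)).appLE ⊤ U.1 le_top).hom.comp
      (Scheme.ΓSpecIso (CommRingCat.of k)).inv.hom
  letI : Algebra k Γ(X, U.1) := κ.toAlgebra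
  letI : Module k Γ(c.pt, U.1) := Module.compHom _ κ
  haveI : IsScalarTower k Γ(X, U.1) Γ(c.pt, U.1) :=
    ⟨fun r a m => by rw [Algebra.smul_def, mul_smul]; rfl⟩
  haveI : Algebra.FiniteType k Γ(X, U.1) :=
    (Scheme.Hom.finiteType_appLE (X ↘ Spec (CommRingCat.of k)) (isAffineOpen_top _) U.2 le_top).comp
      (RingHom.FiniteType.of_surjective _
        (ConcreteCategory.bijective_of_isIso (Scheme.ΓSpecIso (CommRingCat.of k)).inv).2)
  obtain ⟨s, hsc, hss⟩ := hGc U
  obtain ⟨⟨a, ha⟩, v, hv⟩ := exists_spanning_seq k Γ(X, U.1) Γ(c.pt, U.1) s hsc hss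
  let L (i : ℕ) : Submodule k Γ(c.pt, U.1) :=
    { carrier := {m | (Q.obj (op (φ i + 1))).presheaf.germ U.1 (z (φ i)) (hzU _ (hφI i).1)
        ((c.π.app (op (φ i + 1))).app U.1 m) = 0}
      zero_mem' := by simp
      add_mem' := fun {x y} hx hy => by simp_all
      smul_mem' := fun r m hm => by
        show _ = 0
        rw [show r • m = κ r • m from rfl, Scheme.Modules.Hom.app_smul, StalkModule.germ_smul, hm,
          smul_zero] }
  obtain ⟨S, hS⟩ := Diag.exists_set (Algebra.lsmul k k Γ(c.pt, U.1)).toLinearMap v hv a ha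
    (fun i => g (φ i)) L
  -- the section of the limit
  let P (N : ℕ) : Γ(c.pt, U.1) :=
    ∑ i ∈ Finset.range N, if φ i < N then S.indicator (fun i => g (φ i)) i else 0
  have hlow : ∀ (n i : ℕ), n ≤ φ i → (c.π.app (op n)).app U.1 (S.indicator (fun i => g (φ i)) i) = 0 := by
    intro n i hni
    by_cases hi : i ∈ S
    · rw [Set.indicator_of_mem hi, ← c.w (homOfLE hni).op]
      show (Q.map _).app U.1 ((c.π.app (op (φ i))).app U.1 (g (φ i))) = 0
      rw [hg0 _ (hφI i).1, map_zero]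
    · rw [Set.indicator_of_notMem hi, map_zero]
  obtain ⟨x, hx⟩ := exists_section_limit Q U.1 (fun n => (c.π.app (op n)).app U.1 (P n))
    (fun {n m} h => by
      show ((c.π.app (op m)) ≫ Q.map (homOfLE h).op).app U.1 (P m) = _
      rw [c.w]
      simp only [P, map_sum]
      rw [← Finset.sum_subset (Finset.range_subset_range.2 h) (fun i _ hi => by
        split_ifs
        · exact hlow n i ((not_lt.1 (Finset.mem_range.not.1 hi)).trans hφm.le_apply)
        · rw [map_zero])]
      refine Finset.sum_congr rfl fun i _ => ?_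
      split_ifs with h1 h2 h2
      · rfl
      · exact (hlow n i (not_lt.1 h2)).trans (map_zero _).symm
      · omega
      · rfl)
  haveI := hlim
  obtain ⟨V, hV, hyV, w, hw⟩ := Closure.exists_local_lift_of_epi (limit.lift Q c) x hyU
  obtain ⟨f, hf, hyf⟩ := U.2.exists_basicOpen_le (⟨y, hyV⟩ : V) hyU
  obtain ⟨e, m, hm⟩ := (localizes_of_isAffineOpen c.pt U.2 f).ext' (res c.pt hf w)
  -- almost all points lie in `D(f)`
  obtain ⟨i₀, hi₀⟩ : ∃ i₀, ∀ i, i₀ ≤ i → z (φ i) ∈ X.basicOpen f := by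
    have hlt : Z ⊓ ⟨(X.basicOpen f : Set X)ᶜ, (X.basicOpen f).isOpen.isClosed_compl⟩ < Z :=
      lt_of_le_of_ne inf_le_left fun he => (he.symm ▸ hyZ : y ∈ Z ⊓ ⟨(X.basicOpen f : Set X)ᶜ, _⟩).2 hyf
    have hfin : {n | n ∈ I U ∧ z n ∈ Z ⊓ ⟨(X.basicOpen f : Set X)ᶜ, _⟩}.Finite :=
      Set.not_infinite.1 fun h => hmin _ h hlt
    obtain ⟨b, hb⟩ := hfin.bddAbove
    refine ⟨b + 1, fun i hi => by_contra fun hzi => ?_⟩
    have := hb (show φ i ∈ _ from ⟨(hφI i).1, (hφI i).2, hzi⟩)
    have := hφm.le_apply (x := i)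
    omega
  obtain ⟨i, hi, hS'⟩ := hS m (f ^ e) i₀
  have hzf := hi₀ i hi
  have hu : IsUnit (X.presheaf.germ U.1 (z (φ i)) (hzU _ (hφI i).1) f) :=
    (Scheme.mem_basicOpen X f _ _).1 hzf
  rcases hS' with h | h
  · refine hg (φ i) (hφI i).1 ?_
    have h' : (Q.obj (op (φ i + 1))).presheaf.germ U.1 (z (φ i)) (hzU _ (hφI i).1)
        ((c.π.app (op (φ i + 1))).app U.1 (f ^ e • g (φ i))) = 0 := h
    rwa [Scheme.Modules.Hom.app_smul, StalkModule.germ_smul, map_pow, (hu.pow e).smul_eq_zero] at h'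
  · refine h ?_
    have hP : ∑ j ∈ Finset.range (i + 1), S.indicator (fun i => g (φ i)) j = P (φ i + 1) := by
      refine Eq.trans (Finset.sum_congr rfl fun j hj => (if_pos (Nat.lt_succ_of_le
        (hφm.monotone (Nat.le_of_lt_succ (Finset.mem_range.1 hj))))).symm)
        (Finset.sum_subset (Finset.range_subset_range.2 (Nat.succ_le_succ hφm.le_apply))
          (fun j _ hj => if_neg (by
            have := hφm (show i < j by simp at hj; omega)
            omega)))
    have hfac : limit.lift Q c ≫ limit.π Q (op (φ i + 1)) = c.π.app (op (φ i + 1)) :=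
      limit.lift_π c _
    let q : c.pt ⟶ Q.obj (op (φ i + 1)) := c.π.app (op (φ i + 1))
    have key : q.app _ (res c.pt (X.basicOpen_le f) m) =
        q.app _ (res c.pt (X.basicOpen_le f) (f ^ e • P (φ i + 1))) := by
      have h1 : q.app V w = res (Q.obj (op (φ i + 1))) hV (q.app U.1 (P (φ i + 1))) := by
        show (c.π.app (op (φ i + 1))).app V w = _
        rw [← hfac]
        show (limit.π Q _).app V ((limit.lift Q c).app V w) = _
        rw [hw, ← res_app]
        exact congrArg _ (hx _)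
      rw [hm, res_smul, map_pow, Scheme.Modules.Hom.app_smul, Scheme.Modules.Hom.app_smul,
        ← res_app, h1, res_res, ← res_app]
    show (Q.obj (op (φ i + 1))).presheaf.germ U.1 (z (φ i)) (hzU _ (hφI i).1)
      (q.app U.1 (m - f ^ e • _)) = 0
    rw [hP, ← TopCat.Presheaf.germ_res_apply (Q.obj (op (φ i + 1))).presheaf
      (homOfLE (X.basicOpen_le f)) (z (φ i)) hzf]
    show (Q.obj (op (φ i + 1))).presheaf.germ _ _ hzf (res _ (X.basicOpen_le f) _) = 0
    rw [res_app, map_sub, map_sub, key, sub_self, map_zero]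

end Groth.Agent.H68.LimQuot.Main
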