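import Groth.Agent.H68.LimQuot.Tower
import Groth.Agent.Lib.Modules.LocalSections
import Mathlib.LinearAlgebra.Finsupp.VectorSpace

/-!
# Countably quasi-coherent `lim¹` forces Mittag-Leffler
-/

set_option autoImplicit false
universe u

open CategoryTheory CategoryTheory.Limits AlgebraicGeometry Opposite TopologicalSpace
open Groth.Agent.Lib.QCoh Groth.Agent.Lib.QCoh.Localizing Groth.Agent.Lib.Modules

namespace Groth.Agent.H68.LimQuot.MittagLeffler

variable {X : Scheme.{u}}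

/-- The transition map into level `n`, or zero. -/
noncomputable def tau (F : ℕᵒᵖ ⥤ X.Modules) (n r : ℕ) : F.obj (op r) ⟶ F.obj (op n) :=
  if h : n ≤ r then F.map (homOfLE h).op else 0

lemma tau_eq (F : ℕᵒᵖ ⥤ X.Modules) {n r : ℕ} (h : n ≤ r) : tau F n r = F.map (homOfLE h).op :=
  dif_pos h

lemma tau_succ (F : ℕᵒᵖ ⥤ X.Modules) {n r : ℕ} (h : n ≤ r) :
    F.map (homOfLE (Nat.le_succ r)).op ≫ tau F n r = tau F n (r + 1) := by
  rw [tau_eq F h, tau_eq F (h.trans (Nat.le_succ r)), ← F.map_comp]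
  rfl

/-- Telescoping. -/
lemma sum_diff (F : ℕᵒᵖ ⥤ X.Modules) (U : X.Opens) (x : Γ(∏ᶜ fun n : ℕ => F.obj (op n), U)) {n N : ℕ}
    (h : n ≤ N) :
    ∑ r ∈ Finset.range N, (tau F n r).app U
        ((Pi.π (fun n : ℕ => F.obj (op n)) r).app U ((LimSh.towerDiffSh F).app U x)) =
      (Pi.π (fun n : ℕ => F.obj (op n)) n).app U x -
        (tau F n N).app U ((Pi.π (fun n : ℕ => F.obj (op n)) N).app U x) := by
  induction N, h using Nat.le_induction with
  | base =>
    rw [Finset.sum_eq_zero fun r hr => by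
      rw [show tau F n r = 0 from dif_neg (not_le.2 (Finset.mem_range.1 hr))]; rfl,
      tau_eq F le_rfl, Tower.map_self_app, sub_self]
  | succ N hN ih =>
    rw [Finset.sum_range_succ, ih, Tower.diff_app, map_sub, ← tau_succ F hN]
    show _ + (_ - (F.map _ ≫ tau F n N).app U _) = _
    abel

/-- Partial sums of a family commute with restriction, read on germs. -/
lemma germ_sum_res (F : ℕᵒᵖ ⥤ X.Modules) (n N : ℕ) {U V : X.Opens} (h : V ≤ U) {z : X} (hz : z ∈ V)
    (u : Γ(∏ᶜ fun n : ℕ => F.obj (op n), U)) :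
    (F.obj (op n)).presheaf.germ V z hz (∑ r ∈ Finset.range N, (tau F n r).app V
        ((Pi.π (fun n : ℕ => F.obj (op n)) r).app V (res (∏ᶜ fun n : ℕ => F.obj (op n)) h u))) =
      (F.obj (op n)).presheaf.germ U z (h hz) (∑ r ∈ Finset.range N, (tau F n r).app U
        ((Pi.π (fun n : ℕ => F.obj (op n)) r).app U u)) := by
  refine Eq.trans (congrArg _ ?_) (TopCat.Presheaf.germ_res_apply _ (homOfLE h) z hz _)
  show _ = res (F.obj (op n)) h _
  rw [map_sum]
  exact Finset.sum_congr rfl fun r _ => by rw [res_app, res_app]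

variable (k : Type u) [Field k] [X.Over (Spec (CommRingCat.of k))]
  [LocallyOfFiniteType (X ↘ Spec (CommRingCat.of k))] [CompactSpace X]

include k in
theorem mittagLeffler (F : ℕᵒᵖ ⥤ X.Modules) (hF : ∀ n : ℕ, (F.obj (op n)).IsQuasicoherent)
    (hFc : ∀ n : ℕ, ∀ U : X.affineOpens, ∃ s : Set ((F.obj (op n)).val.obj (op (U : X.Opens))),
          s.Countable ∧ Submodule.span (X.ringCatSheaf.obj.obj (op (U : X.Opens))) s = ⊤)
    (hC : ∀ U : X.affineOpens, ∃ s : Set ((LimSh.limOneSh F).val.obj (op (U : X.Opens))),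
            s.Countable ∧ Submodule.span (X.ringCatSheaf.obj.obj (op (U : X.Opens))) s = ⊤) :
    ∀ n : ℕ, ∃ (m : ℕ) (hm : n ≤ m), ∀ (m' : ℕ) (hm' : m ≤ m'),
        imageSubobject (F.map (homOfLE (hm.trans hm')).op) = imageSubobject (F.map (homOfLE hm).op) := by
  classical
  intro n
  by_contra hne
  push Not at hne
  haveI := hF
  let T (r : ℕ) (x : X) := Set.range ((Stalk.stalkFunctor X x).map (tau F n r))
  have hbad : ∀ N, ∃ r ≥ N, n ≤ r ∧ ∃ x : X, ¬ T r x ⊆ T (r + 1) x := by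
    intro N
    by_contra hcon
    push Not at hcon
    obtain ⟨m', hm', hne'⟩ := hne (max N n) (le_max_right _ _)
    refine hne' (le_antisymm ?_ ?_)
    · refine Tower.imageSubobject_le_of_stalk _ _ fun x v => ⟨(Stalk.stalkFunctor X x).map
        (F.map (homOfLE hm').op) v, ?_⟩
      rw [← ConcreteCategory.comp_apply, ← Functor.map_comp, ← F.map_comp]
      rfl
    · refine Tower.imageSubobject_le_of_stalk _ _ fun x v => ?_
      have : ∀ j, max N n ≤ j → T (max N n) x ⊆ T j x := fun j hj => by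
        induction j, hj using Nat.le_induction with
        | base => exact subset_rfl
        | succ j hj ih =>
          exact ih.trans (hcon j ((le_max_left _ _).trans hj) ((le_max_right _ _).trans hj) x)
      obtain ⟨w, hw⟩ := this m' hm' ⟨v, rfl⟩
      refine ⟨w, ?_⟩
      rw [tau_eq F (le_max_right _ _), tau_eq F ((le_max_right N n).trans hm')] at hw
      exact hw
  obtain ⟨Fc, hFcf, hcov⟩ := isCompact_and_isOpen_iff_finite_and_eq_biUnion_affineOpens.mp
    ⟨(isCompact_univ : IsCompact (Set.univ : Set X)), isOpen_univ⟩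
  let I (U : X.affineOpens) : Set ℕ := {r | n ≤ r ∧ ∃ x ∈ U.1, ¬ T r x ⊆ T (r + 1) x}
  obtain ⟨U, -, hUI⟩ : ∃ U ∈ Fc, (I U).Infinite := by
    by_contra hfin
    push Not at hfin
    obtain ⟨N, hN⟩ := (hFcf.biUnion fun U hU => hfin U hU).bddAbove
    obtain ⟨r, hr, hnr, x, hx⟩ := hbad (N + 1)
    obtain ⟨U, hU, hxU⟩ := Set.mem_iUnion₂.1 (hcov ▸ Set.mem_univ x)
    have := hN (Set.mem_iUnion₂.2 ⟨U, hU, hnr, x, hxU, hx⟩)
    omega
  have hsec : ∀ r : ℕ, ∃ g : Γ(F.obj (op r), U.1), r ∈ I U → ∃ z, ∃ hz : z ∈ U.1,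
      (F.obj (op n)).presheaf.germ U.1 z hz ((tau F n r).app U.1 g) ∉ T (r + 1) z := by
    intro r
    by_cases hr : r ∈ I U
    swap
    · exact ⟨0, fun h => absurd h hr⟩
    obtain ⟨-, x, hxU, hx⟩ := hr
    obtain ⟨_, ⟨v, rfl⟩, hv⟩ := Set.not_subset.1 hx
    obtain ⟨V, hxV, s, rfl⟩ := (F.obj (op r)).presheaf.exists_germ_eq v
    obtain ⟨f, hf, hxf⟩ := U.2.exists_basicOpen_le (⟨x, hxV⟩ : V) hxU
    obtain ⟨e, t, ht⟩ := (localizes_of_isAffineOpen (F.obj (op r)) U.2 f).ext' (res _ hf s)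
    refine ⟨t, fun _ => ⟨x, hxU, fun ⟨w, hw⟩ => hv ?_⟩⟩
    have hu : IsUnit (X.presheaf.germ U.1 x hxU f) := (Scheme.mem_basicOpen X f x hxU).1 hxf
    have h1 : (F.obj (op r)).presheaf.germ U.1 x hxU t =
        X.presheaf.germ U.1 x hxU f ^ e • (F.obj (op r)).presheaf.germ V x hxV s := by
      have := congrArg ((F.obj (op r)).presheaf.germ (X.basicOpen f) x hxf) ht
      rw [StalkModule.germ_smul, map_pow] at this
      refine ((TopCat.Presheaf.germ_res_apply _ _ _ _ _).symm.trans this).trans ?_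
      congr 1
      · exact congrArg (· ^ e) (TopCat.Presheaf.germ_res_apply X.presheaf _ _ _ _)
      · exact TopCat.Presheaf.germ_res_apply _ _ _ _ _
    have h2 : StalkModule.stalkMapₗ (tau F n r) x (X.presheaf.germ U.1 x hxU f ^ e •
        (F.obj (op r)).presheaf.germ V x hxV s) = StalkModule.stalkMapₗ (tau F n (r + 1)) x w := by
      rw [← h1]
      exact (Stalk.stalkFunctor_map_germ x _ hxU t).trans hw.symm
    rw [map_smul] at h2
    obtain ⟨c, hc⟩ := (hu.pow e).exists_left_inv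
    let w' : (F.obj (op (r + 1))).presheaf.stalk x := w
    refine ⟨c • w', (map_smul (StalkModule.stalkMapₗ (tau F n (r + 1)) x) c w').trans ?_⟩
    refine (congrArg (c • ·) h2.symm).trans ?_
    rw [smul_smul, hc, one_smul]
    rfl
  choose g hg using hsec
  haveI : Nonempty X := let ⟨r, hr⟩ := hUI.nonempty; ⟨hr.2.choose⟩
  choose! z hzU hg using hg
  haveI : IsLocallyNoetherian X :=
    LocallyOfFiniteType.isLocallyNoetherian (X ↘ Spec (CommRingCat.of k))
  haveI : AlgebraicGeometry.IsNoetherian X := {}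
  obtain ⟨Z, hZ, hmin⟩ := (wellFounded_lt : WellFounded ((· < ·) : Closeds X → Closeds X → Prop)).has_min
    {C | {r | r ∈ I U ∧ z r ∈ C}.Infinite} ⟨⊤, hUI.mono fun r hr => ⟨hr, trivial⟩⟩
  let p : ℕ → Prop := fun r => r ∈ I U ∧ z r ∈ Z
  have hp : {r | p r}.Infinite := hZ
  let φ : ℕ → ℕ := Nat.nth p
  have hφI : ∀ i, φ i ∈ I U ∧ z (φ i) ∈ Z := Nat.nth_mem_of_infinite hp
  have hφm : StrictMono φ := Nat.nth_strictMono hp
  obtain ⟨pt, hptU, hptZ⟩ : ∃ y, y ∈ U.1 ∧ y ∈ Z := ⟨z (φ 0), hzU _ (hφI 0).1, (hφI 0).2⟩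
  -- local lifts of generators of `lim¹`
  let q : (∏ᶜ fun n : ℕ => F.obj (op n)) ⟶ LimSh.limOneSh F := cokernel.π (LimSh.towerDiffSh F)
  haveI : Epi q := inferInstanceAs (Epi (cokernel.π _))
  obtain ⟨η, hηc, hηs⟩ : ∃ η : Set Γ(LimSh.limOneSh F, U.1), η.Countable ∧
      Submodule.span Γ(X, U.1) η = ⊤ := hC U
  have hcover : ∀ a : Γ(LimSh.limOneSh F, U.1), ∃ H : Finset Γ(X, U.1),
      (∀ y ∈ U.1, ∃ h ∈ H, y ∈ X.basicOpen h) ∧ ∀ h ∈ H, ∃ lam : Γ(∏ᶜ fun n : ℕ => F.obj (op n),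
        X.basicOpen h), q.app _ lam = res _ (X.basicOpen_le h) a := by
    intro a
    have : ∀ y : U.1, ∃ h : Γ(X, U.1), y.1 ∈ X.basicOpen h ∧ ∃ lam : Γ(∏ᶜ fun n : ℕ => F.obj (op n),
        X.basicOpen h), q.app _ lam = res _ (X.basicOpen_le h) a := by
      rintro ⟨y, hy⟩
      obtain ⟨V, hV, hyV, lam, hl⟩ := Closure.exists_local_lift_of_epi q a hy
      obtain ⟨h, hh, hyh⟩ := U.2.exists_basicOpen_le (⟨y, hyV⟩ : V) hy
      exact ⟨h, hyh, res _ hh lam, by rw [← res_app, hl, res_res]⟩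
    choose hfun hyh hlam using this
    obtain ⟨t, ht⟩ := U.2.isCompact.elim_finite_subcover (fun y : U.1 => (X.basicOpen (hfun y) : Set X))
      (fun y => (X.basicOpen (hfun y)).2) (fun y hy => Set.mem_iUnion.2 ⟨⟨y, hy⟩, hyh ⟨y, hy⟩⟩)
    refine ⟨t.image hfun, fun y hy => ?_, fun h hh => ?_⟩
    · obtain ⟨w, hw, hyw⟩ := Set.mem_iUnion₂.1 (ht hy)
      exact ⟨_, Finset.mem_image_of_mem _ hw, hyw⟩
    · obtain ⟨w, -, rfl⟩ := Finset.mem_image.1 hh
      exact hlam w
  choose H hHc hHl using hcover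
  choose lam hlam using hHl
  haveI : Countable η := hηc.to_subtype
  let J := Σ a : η, H a.1
  let σ (i : ℕ) (j : J) : (F.obj (op n)).presheaf.stalk (z (φ i)) :=
    if hz : z (φ i) ∈ X.basicOpen j.2.1 then
      (F.obj (op n)).presheaf.germ _ _ hz (∑ r ∈ Finset.range (φ i + 1), (tau F n r).app _
        ((Pi.π (fun n : ℕ => F.obj (op n)) r).app _ (lam j.1.1 j.2.1 j.2.2)))
    else 0
  -- the structure over the ground field
  let κ : k →+* Γ(X, U.1) :=
    ((X ↘ Spec (CommRingCat.of k)).appLE ⊤ U.1 le_top).hom.comp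
      (Scheme.ΓSpecIso (CommRingCat.of k)).inv.hom
  letI : Algebra k Γ(X, U.1) := κ.toAlgebra
  letI : Module k Γ(F.obj (op n), U.1) := Module.compHom _ κ
  haveI : IsScalarTower k Γ(X, U.1) Γ(F.obj (op n), U.1) :=
    ⟨fun r a m => by rw [Algebra.smul_def, mul_smul]; rfl⟩
  haveI : Algebra.FiniteType k Γ(X, U.1) :=
    (Scheme.Hom.finiteType_appLE (X ↘ Spec (CommRingCat.of k)) (isAffineOpen_top _) U.2 le_top).comp
      (RingHom.FiniteType.of_surjective _
        (ConcreteCategory.bijective_of_isIso (Scheme.ΓSpecIso (CommRingCat.of k)).inv).2)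
  obtain ⟨s, hsc, hss⟩ : ∃ s : Set Γ(F.obj (op n), U.1), s.Countable ∧
      Submodule.span Γ(X, U.1) s = ⊤ := hFc n U
  have hspan : Submodule.span Γ(X, U.1)
      ((LinearMap.inl Γ(X, U.1) Γ(F.obj (op n), U.1) (J →₀ Γ(X, U.1))) '' s ∪
        (LinearMap.inr Γ(X, U.1) Γ(F.obj (op n), U.1) (J →₀ Γ(X, U.1))) ''
          Set.range fun j : J => Finsupp.single j (1 : Γ(X, U.1))) = ⊤ := by
    rw [Submodule.span_union, Submodule.span_image, Submodule.span_image,
      hss]
    rw [show Submodule.span Γ(X, U.1) (Set.range fun j : J => Finsupp.single j (1 : Γ(X, U.1))) = ⊤ from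
      (Finsupp.basisSingleOne (R := Γ(X, U.1)) (ι := J)).span_eq, Submodule.map_top, Submodule.map_top]
    exact LinearMap.sup_range_inl_inr
  obtain ⟨⟨a, ha⟩, v, hv⟩ := Main.exists_spanning_seq k Γ(X, U.1)
    (Γ(F.obj (op n), U.1) × (J →₀ Γ(X, U.1))) _
    ((hsc.image _).union ((Set.countable_range _).image _)) hspan
  let gm (i : ℕ) := X.presheaf.germ U.1 (z (φ i)) (hzU _ (hφI i).1)
  let Ψ (i : ℕ) (mc : Γ(F.obj (op n), U.1) × (J →₀ Γ(X, U.1))) : (F.obj (op n)).presheaf.stalk (z (φ i)) :=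
    (F.obj (op n)).presheaf.germ U.1 (z (φ i)) (hzU _ (hφI i).1) mc.1 + mc.2.sum fun j a => gm i a • σ i j
  have hΨadd : ∀ i x y, Ψ i (x + y) = Ψ i x + Ψ i y := fun i x y => by
    simp only [Ψ, Prod.fst_add, Prod.snd_add, map_add]
    rw [Finsupp.sum_add_index' (fun j => by simp) (fun j a b => by rw [map_add, add_smul])]
    abel
  have hΨsmul : ∀ i (a : Γ(X, U.1)) x, Ψ i (a • x) = gm i a • Ψ i x := fun i a x => by
    simp only [Ψ, gm, Prod.smul_fst, Prod.smul_snd, StalkModule.germ_smul, smul_add, Finsupp.smul_sum]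
    rw [Finsupp.sum_smul_index (fun j => by simp)]
    congr 1
    exact Finsupp.sum_congr fun j _ => by rw [map_mul, mul_smul]
  let L (i : ℕ) : Submodule k (Γ(F.obj (op n), U.1) × (J →₀ Γ(X, U.1))) :=
    { carrier := {mc | Ψ i mc ∈ LinearMap.range (StalkModule.stalkMapₗ (tau F n (φ i + 1)) (z (φ i)))}
      zero_mem' := ⟨0, by simp [Ψ]⟩
      add_mem' := fun {x y} hx hy => by
        simp only [Set.mem_ofPred_eq, Set.mem_setOf_eq] at hx hy ⊢
        rw [hΨadd]
        exact add_mem hx hy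
      smul_mem' := fun r x hx => by
        simp only [Set.mem_ofPred_eq, Set.mem_setOf_eq] at hx ⊢
        rw [← algebraMap_smul Γ(X, U.1) r x, hΨsmul]
        exact Submodule.smul_mem _ _ hx }
  let G (i : ℕ) : Γ(F.obj (op n), U.1) := (tau F n (φ i)).app U.1 (g (φ i))
  obtain ⟨S, hS⟩ := Diag.exists_set
    (Algebra.lsmul k k (Γ(F.obj (op n), U.1) × (J →₀ Γ(X, U.1)))).toLinearMap v hv a ha
    (fun i => (G i, 0)) L
  obtain ⟨y, hy⟩ := Tower.exists_section_pi (fun n : ℕ => F.obj (op n)) U.1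
    (fun r => if r ∈ φ '' S then g r else 0)
  -- its class
  obtain ⟨c, hcq⟩ := (Finsupp.mem_span_range_iff_exists_finsupp).1
    (show q.app U.1 y ∈ Submodule.span Γ(X, U.1) (Set.range fun e : η => (e.1 : Γ(LimSh.limOneSh F, U.1))) by
      rw [Subtype.range_coe_subtype, Set.setOf_mem_eq]
      exact hηs ▸ trivial)
  choose hh hhH hpth using fun e : η => hHc e.1 pt hptU
  let Wop : X.Opens := U.1 ⊓ c.support.inf fun e => X.basicOpen (hh e)
  have hWU : Wop ≤ U.1 := inf_le_left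
  have hWh : ∀ e ∈ c.support, Wop ≤ X.basicOpen (hh e) := fun e he => inf_le_right.trans (Finset.inf_le he)
  have hptW : pt ∈ Wop := by
    refine ⟨hptU, ?_⟩
    induction c.support using Finset.cons_induction with
    | empty => simp
    | cons e t he ih => rw [Finset.inf_cons]; exact ⟨hpth e, ih⟩
  let P := ∏ᶜ fun n : ℕ => F.obj (op n)
  let Λ : Γ(P, Wop) := c.sum fun e a => resR hWU a •
    (if h : Wop ≤ X.basicOpen (hh e) then res P h (lam e.1 (hh e) (hhH e)) else 0)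
  let w : Γ(P, Wop) := res P hWU y - Λ
  have hw : q.app Wop w = 0 := by
    rw [map_sub, ← res_app, ← hcq, sub_eq_zero, map_finsuppSum, map_finsuppSum]
    refine Finsupp.sum_congr fun e he => ?_
    rw [Scheme.Modules.Hom.app_smul, dif_pos (hWh e he), ← res_app, hlam, res_res, res_smul]
  obtain ⟨W', hW', x, hptx, hx⟩ := LocalSections.exists_preimage_of_exact (w := cokernel.condition (LimSh.towerDiffSh F))
    (ShortComplex.exact_of_g_is_cokernel (ShortComplex.mk _ _ (cokernel.condition (LimSh.towerDiffSh F)))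
      (cokernelIsCokernel _)) w hw hptW
  obtain ⟨f, hf, hptf⟩ := U.2.exists_basicOpen_le (⟨pt, hptx⟩ : W') hptU
  obtain ⟨e₀, m, hm⟩ := (localizes_of_isAffineOpen (F.obj (op n)) U.2 f).ext'
    (res _ hf ((Pi.π (fun n : ℕ => F.obj (op n)) n).app W' x))
  obtain ⟨i₀, hi₀⟩ : ∃ i₀, ∀ i, i₀ ≤ i → z (φ i) ∈ X.basicOpen f := by
    have hlt : Z ⊓ ⟨(X.basicOpen f : Set X)ᶜ, (X.basicOpen f).isOpen.isClosed_compl⟩ < Z :=
      lt_of_le_of_ne inf_le_left fun he =>
        (he.symm ▸ hptZ : pt ∈ Z ⊓ ⟨(X.basicOpen f : Set X)ᶜ, _⟩).2 hptf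
    have hfin : {r | r ∈ I U ∧ z r ∈ Z ⊓ ⟨(X.basicOpen f : Set X)ᶜ, _⟩}.Finite :=
      Set.not_infinite.1 fun h => hmin _ h hlt
    obtain ⟨b, hb⟩ := hfin.bddAbove
    refine ⟨b + 1, fun i hi => by_contra fun hzi => ?_⟩
    have := hb (show φ i ∈ _ from ⟨(hφI i).1, (hφI i).2, hzi⟩)
    have := hφm.le_apply (x := i)
    omega
  let emb : η ↪ J := ⟨fun e => ⟨e, hh e, hhH e⟩, fun e e' h => congrArg Sigma.fst h⟩
  obtain ⟨i, hi, hS'⟩ := hS (m, f ^ e₀ • c.embDomain emb) (f ^ e₀) i₀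
  have hzf := hi₀ i hi
  have hzW' : z (φ i) ∈ W' := hf hzf
  have hzW : z (φ i) ∈ Wop := hW' hzW'
  have hu : IsUnit (gm i f) := (Scheme.mem_basicOpen X f _ _).1 hzf
  rcases hS' with h | h
  · refine hg (φ i) (hφI i).1 ?_
    have h1 : Ψ i (f ^ e₀ • (G i, 0)) ∈ LinearMap.range (StalkModule.stalkMapₗ (tau F n (φ i + 1)) (z (φ i))) := h
    rw [hΨsmul, map_pow, Submodule.smul_mem_iff_of_isUnit _ (hu.pow e₀),
      show Ψ i (G i, 0) = (F.obj (op n)).presheaf.germ U.1 (z (φ i)) (hzU _ (hφI i).1) (G i) by simp [Ψ]] at h1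
    obtain ⟨w, hw⟩ := h1
    exact ⟨w, hw⟩
  · refine h ?_
    let N := φ i + 1
    have hnN : n ≤ N := (hφI i).1.1.trans (Nat.le_succ _)
    let germW := (F.obj (op n)).presheaf.germ Wop (z (φ i)) hzW
    have hP : ∑ r ∈ Finset.range N, (tau F n r).app U.1 ((Pi.π (fun n : ℕ => F.obj (op n)) r).app U.1 y) =
        ∑ j ∈ Finset.range (i + 1), S.indicator G j := by
      symm
      rw [← Finset.sum_subset (show (Finset.range (i + 1)).image φ ⊆ Finset.range N from fun r hr => by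
          obtain ⟨j, hj, rfl⟩ := Finset.mem_image.1 hr
          exact Finset.mem_range.2 (Nat.lt_succ_of_le (hφm.monotone (Nat.le_of_lt_succ (Finset.mem_range.1 hj)))))
        (fun r hr hr' => by
          rw [hy, if_neg (fun ⟨j, hj, hjr⟩ => hr' (Finset.mem_image.2 ⟨j, Finset.mem_range.2
            (Nat.lt_succ_of_le (hφm.le_iff_le.1 (hjr ▸ Nat.le_of_lt_succ (Finset.mem_range.1 hr)))), hjr⟩)),
            map_zero]),
        Finset.sum_image (fun a _ b _ h => hφm.injective h)]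
      refine Finset.sum_congr rfl fun j _ => ?_
      rw [hy]
      by_cases hj : j ∈ S
      · rw [Set.indicator_of_mem hj, if_pos ⟨j, hj, rfl⟩]
      · rw [Set.indicator_of_notMem hj, if_neg (fun ⟨j', hj', he⟩ => hj (hφm.injective he ▸ hj')), map_zero]
    -- telescoping, read at the point
    have hD : (F.obj (op n)).presheaf.germ W' (z (φ i)) hzW' ((Pi.π (fun n : ℕ => F.obj (op n)) n).app W' x) =
        StalkModule.stalkMapₗ (tau F n N) (z (φ i)) ((F.obj (op N)).presheaf.germ W' (z (φ i)) hzW'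
          ((Pi.π (fun n : ℕ => F.obj (op n)) N).app W' x)) +
        germW (∑ r ∈ Finset.range N, (tau F n r).app Wop ((Pi.π (fun n : ℕ => F.obj (op n)) r).app Wop w)) := by
      have h1 := sum_diff F W' x hnN
      rw [show (LimSh.towerDiffSh F).app W' x = res P hW' w from hx] at h1
      rw [StalkModule.stalkMapₗ_germ]
      have h2 := (congrArg ((F.obj (op n)).presheaf.germ W' (z (φ i)) hzW') h1).trans (map_sub _ _ _)
      rw [show germW _ = _ from (germ_sum_res F n N hW' hzW' w).symm]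
      exact eq_add_of_sub_eq' h2.symm
    have hΛ : germW (∑ r ∈ Finset.range N, (tau F n r).app Wop ((Pi.π (fun n : ℕ => F.obj (op n)) r).app Wop Λ)) =
        (c.embDomain emb).sum fun j a => gm i a • σ i j := by
      rw [Finsupp.sum_embDomain]
      simp only [Λ, Finsupp.sum, map_sum, Scheme.Modules.Hom.app_smul]
      rw [Finset.sum_comm]
      refine Finset.sum_congr rfl fun e he => ?_
      rw [← map_sum, ← Finset.smul_sum]
      refine (StalkModule.germ_smul hzW _ _).trans ?_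
      congr 1
      · exact TopCat.Presheaf.germ_res_apply X.presheaf _ _ _ _
      · rw [dif_pos (hWh e he)]
        simp only [σ, emb, Function.Embedding.coeFn_mk, dif_pos (hWh e he hzW)]
        exact germ_sum_res F n N (hWh e he) hzW _
    have hY : germW (∑ r ∈ Finset.range N, (tau F n r).app Wop
          ((Pi.π (fun n : ℕ => F.obj (op n)) r).app Wop (res P hWU y))) =
        (F.obj (op n)).presheaf.germ U.1 (z (φ i)) (hzU _ (hφI i).1) (∑ j ∈ Finset.range (i + 1), S.indicator G j) := by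
      refine (germ_sum_res F n N hWU hzW y).trans (congrArg _ hP)
    have hm' : (F.obj (op n)).presheaf.germ U.1 (z (φ i)) (hzU _ (hφI i).1) m =
        gm i f ^ e₀ • (F.obj (op n)).presheaf.germ W' (z (φ i)) hzW' ((Pi.π (fun n : ℕ => F.obj (op n)) n).app W' x) := by
      have := congrArg ((F.obj (op n)).presheaf.germ (X.basicOpen f) (z (φ i)) hzf) hm
      rw [StalkModule.germ_smul, map_pow] at this
      refine ((TopCat.Presheaf.germ_res_apply _ _ _ _ _).symm.trans this).trans ?_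
      congr 1
      · exact congrArg (· ^ e₀) (TopCat.Presheaf.germ_res_apply X.presheaf _ _ _ _)
      · exact TopCat.Presheaf.germ_res_apply _ _ _ _ _
    have hind : ∀ j, S.indicator (fun i => ((G i, 0) : Γ(F.obj (op n), U.1) × (J →₀ Γ(X, U.1)))) j =
        (S.indicator G j, 0) := fun j => by
      by_cases hj : j ∈ S <;> simp [hj, Prod.ext_iff]
    suffices key : Ψ i ((m, f ^ e₀ • c.embDomain emb) - f ^ e₀ • ∑ j ∈ Finset.range (i + 1),
        S.indicator (fun i => ((G i, 0) : Γ(F.obj (op n), U.1) × (J →₀ Γ(X, U.1)))) j) ∈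
        LinearMap.range (StalkModule.stalkMapₗ (tau F n (φ i + 1)) (z (φ i))) by exact key
    rw [Finset.sum_congr rfl fun j _ => hind j,
      show ((m, f ^ e₀ • c.embDomain emb) : Γ(F.obj (op n), U.1) × (J →₀ Γ(X, U.1))) -
          f ^ e₀ • (∑ j ∈ Finset.range (i + 1), (S.indicator G j, (0 : J →₀ Γ(X, U.1)))) =
        (m, 0) + f ^ e₀ • (-(∑ j ∈ Finset.range (i + 1), S.indicator G j), c.embDomain emb) by
          ext <;> simp [Prod.fst_sum, Prod.snd_sum, smul_neg, sub_eq_add_neg],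
      hΨadd, hΨsmul, map_pow,
      show Ψ i (m, 0) = (F.obj (op n)).presheaf.germ U.1 (z (φ i)) (hzU _ (hφI i).1) m by simp [Ψ],
      hm', ← smul_add]
    refine Submodule.smul_mem _ _ ⟨(F.obj (op N)).presheaf.germ W' (z (φ i)) hzW'
      ((Pi.π (fun n : ℕ => F.obj (op n)) N).app W' x), ?_⟩
    rw [hD]
    simp only [w, map_sub, Finset.sum_sub_distrib, Ψ, map_neg]
    rw [hY, hΛ, StalkModule.stalkMapₗ_apply]
    abel

end Groth.Agent.H68.LimQuot.MittagLeffler
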