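import Groth.Agent.H68.LimQuot.MittagLeffler
import Groth.Agent.Lib.Modules.AffineSections

/-!
# Mittag-Leffler, vanishing and countable quasi-coherence of `lim¹`
-/

set_option autoImplicit false
universe u

open CategoryTheory CategoryTheory.Limits AlgebraicGeometry Opposite
open Groth.Agent.Lib.QCoh Groth.Agent.Lib.Modules

namespace Groth.Agent.H68.LimQuot.TFAE

variable {X : Scheme.{u}}

lemma isQCoh_of_isZero {M : X.Modules} (h : IsZero M) (N : X.Modules) [N.IsQuasicoherent] :
    M.IsQuasicoherent := by
  haveI := Closure.isQCoh_kernel (𝟙 N)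
  exact Groth.Agent.Lib.CohBasics.Closure.isQCoh_of_iso ((isZero_kernel_of_mono (𝟙 N)).iso h)

lemma countable_of_isZero {M : X.Modules} (h : IsZero M) (U : X.affineOpens) :
    ∃ s : Set (M.val.obj (op (U : X.Opens))),
      s.Countable ∧ Submodule.span (X.ringCatSheaf.obj.obj (op (U : X.Opens))) s = ⊤ := by
  refine ⟨∅, Set.countable_empty, ?_⟩
  haveI : Subsingleton (M.val.obj (op (U : X.Opens))) := AffineSections.subsingleton_sections h U.1
  exact Subsingleton.elim _ _

end Groth.Agent.H68.LimQuot.TFAE
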