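import Groth.Agent.H68.LimQuot.TFAE
import Groth.Agent.Lib.DerivedOX.TensorSheaf
import Groth.Prelude.Def_FlatMod2
import Mathlib.RingTheory.Flat.Basic

/-!
# Limits of countably quasi-coherent towers tensored with a flat module
-/

set_option autoImplicit false
universe u

open CategoryTheory CategoryTheory.Limits AlgebraicGeometry Opposite MonoidalCategory
open Groth.Agent.Lib.QCoh Groth.Agent.Lib.Modules

namespace Groth.Agent.H68.LimQuot.TensorLim

variable {X : Scheme.{u}}

/-- Tensoring with a flat module preserves monomorphisms. -/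
lemma mono_tensorRight {M N : X.Modules} (f : M ⟶ N) [Mono f] (E : X.Modules) (hE : FlatMod.IsFlat E) :
    Mono ((LimSh.tensorRight E).map f) := by
  have : Mono ((DCoh.tensorBi.map f).app E) := by
    rw [StalkModule.mono_iff_stalkMapₗ_injective]
    intro x a b hab
    haveI : Module.Flat (X.presheaf.stalk x) (E.presheaf.stalk x) := hE x
    apply (Groth.Agent.Lib.DerivedOX.TensorSheaf.tensorStalk x M E).injective
    apply Module.Flat.rTensor_preserves_injective_linearMap (M := E.presheaf.stalk x) (StalkModule.stalkMapₗ f x)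
      ((StalkModule.mono_iff_stalkMapₗ_injective f).1 inferInstance x)
    have h : ∀ z, Groth.Agent.Lib.DerivedOX.TensorSheaf.tensorStalk x N E
        (StalkModule.stalkMapₗ ((DCoh.tensorBi.map f).app E) x z) =
        LinearMap.rTensor _ (StalkModule.stalkMapₗ f x)
          (Groth.Agent.Lib.DerivedOX.TensorSheaf.tensorStalk x M E z) := fun z => by
      have := Groth.Agent.Lib.DerivedOX.TensorSheaf.tensorStalk_natural x f (𝟙 E) z
      rw [CategoryTheory.Functor.map_id, Category.comp_id, StalkModule.stalkMapₗ_id] at this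
      exact this
    rw [← h a, ← h b, hab]
  exact this

variable (k : Type u) [Field k] [X.Over (Spec (CommRingCat.of k))]
  [LocallyOfFiniteType (X ↘ Spec (CommRingCat.of k))] [CompactSpace X]

include k in
/-- A countably quasi-coherent limit is a submodule of some term. -/
theorem exists_mono_π (F : ℕᵒᵖ ⥤ X.Modules) (hF : ∀ n : ℕ, (F.obj (op n)).IsQuasicoherent)
    (hL : (limit F).IsQuasicoherent)
    (hLc : ∀ U : X.affineOpens, ∃ s : Set ((limit F).val.obj (op (U : X.Opens))),
        s.Countable ∧ Submodule.span (X.ringCatSheaf.obj.obj (op (U : X.Opens))) s = ⊤) :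
    ∃ N : ℕ, ∀ r, N ≤ r → Mono (limit.π F (op r)) := by
  let ar : ℕᵒᵖ ⥤ Arrow X.Modules :=
    { obj := fun j => Arrow.mk (limit.π F j)
      map := fun {i j} f => Arrow.homMk (𝟙 _) (F.map f) (by simp)
      map_id := fun j => Arrow.hom_ext _ _ rfl (F.map_id j)
      map_comp := fun f g => Arrow.hom_ext _ _ (Category.comp_id _).symm (F.map_comp f g) }
  let Q : ℕᵒᵖ ⥤ X.Modules := ar ⋙ im
  let ιQ : Q ⟶ F :=
    { app := fun j => image.ι (limit.π F j)
      naturality := fun i j f => image.map_ι _ }
  let c : Cone Q :=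
    { pt := limit F
      π :=
      { app := fun j => factorThruImage (limit.π F j)
        naturality := fun i j f => by
          show 𝟙 (limit F) ≫ _ = _ ≫ image.map (ar.map f)
          rw [Category.id_comp]
          exact ((image.factor_map (ar.map f)).trans (Category.id_comp _)).symm } }
  haveI : ∀ j : ℕᵒᵖ, Mono (ιQ.app j) := fun j => inferInstanceAs (Mono (image.ι _))
  have hlift : limit.lift Q c ≫ limMap ιQ = 𝟙 _ := limit.hom_ext fun j => by
    rw [Category.assoc, limMap_π, limit.lift_π_assoc, Category.id_comp]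
    exact image.fac _
  haveI : Epi (limMap ιQ) := (SplitEpi.mk _ hlift).epi
  haveI : IsIso (limMap ιQ) := isIso_of_mono_of_epi _
  have hlim : Epi (limit.lift Q c) := by
    rw [(IsIso.eq_comp_inv (limMap ιQ)).2 hlift]
    infer_instance
  obtain ⟨N, hN⟩ := Main.eventually_isIso k Q (fun n => @Image.isQCoh_image _ _ _ _ hL (hF n)) c hL hLc
    (fun n => inferInstanceAs (Epi (factorThruImage _))) hlim
  have hiso : ∀ (n : ℕ) (h : N ≤ n), IsIso (Q.map (homOfLE h).op) := by
    intro n h
    induction n, h using Nat.le_induction with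
    | base =>
      rw [show (homOfLE (le_refl N)).op = 𝟙 (op N) from rfl, Q.map_id]
      infer_instance
    | succ n h ih =>
      rw [show (homOfLE (h.trans (Nat.le_succ n))).op = (homOfLE (Nat.le_succ n)).op ≫ (homOfLE h).op from rfl,
        Q.map_comp]
      haveI := hN n h
      infer_instance
  refine ⟨N, fun r hr => Preadditive.mono_of_cancel_zero _ fun {P} g hg => ?_⟩
  have hN0 : g ≫ c.π.app (op r) = 0 := by
    refine (cancel_mono (image.ι (limit.π F (op r)))).1 ?_
    show (g ≫ factorThruImage (limit.π F (op r))) ≫ _ = _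
    refine ((Category.assoc _ _ _).trans ?_).trans zero_comp.symm
    rw [image.fac, hg]
  haveI : Mono (limit.lift Q c) := (SplitMono.mk _ hlift).mono
  rw [← cancel_mono (limit.lift Q c), zero_comp]
  refine limit.hom_ext fun j => ?_
  obtain ⟨n⟩ := j
  rw [Category.assoc, limit.lift_π, zero_comp]
  rcases le_total r n with h | h
  · haveI := hiso n (hr.trans h)
    haveI := hiso r hr
    haveI : IsIso (Q.map (homOfLE h).op ≫ Q.map (homOfLE hr).op) := by
      rw [← Q.map_comp]
      exact hiso n (hr.trans h)
    haveI : IsIso (Q.map (homOfLE h).op) := IsIso.of_isIso_comp_right _ (Q.map (homOfLE hr).op)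
    rw [← cancel_mono (Q.map (homOfLE h).op), Category.assoc, zero_comp, c.w, hN0]
  · rw [← c.w (homOfLE h).op, ← Category.assoc, hN0, zero_comp]

include k in
theorem post_tensor (F : ℕᵒᵖ ⥤ X.Modules) (hF : ∀ n : ℕ, (F.obj (op n)).IsQuasicoherent)
    (hFc : ∀ n : ℕ, ∀ U : X.affineOpens, ∃ s : Set ((F.obj (op n)).val.obj (op (U : X.Opens))),
          s.Countable ∧ Submodule.span (X.ringCatSheaf.obj.obj (op (U : X.Opens))) s = ⊤)
    (E : X.Modules) (hE : FlatMod.IsFlat E) (hL : (limit F).IsQuasicoherent)
    (hLc : ∀ U : X.affineOpens, ∃ s : Set ((limit F).val.obj (op (U : X.Opens))),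
        s.Countable ∧ Submodule.span (X.ringCatSheaf.obj.obj (op (U : X.Opens))) s = ⊤) :
    Mono (limit.post F (LimSh.tensorRight E)) ∧
      (IsZero (LimSh.limOneSh F) → IsIso (limit.post F (LimSh.tensorRight E))) := by
  haveI := hF
  haveI := hL
  obtain ⟨N, hN⟩ := exists_mono_π k F hF hL hLc
  let T := LimSh.tensorRight E
  haveI hmono : Mono (limit.post F T) := by
    haveI := hN N le_rfl
    haveI : Mono (T.map (limit.π F (op N))) := mono_tensorRight _ E hE
    exact mono_of_mono_fac (limit.post_π F T (op N))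
  refine ⟨hmono, fun hz => ?_⟩
  have hML := MittagLeffler.mittagLeffler k F hF hFc (TFAE.countable_of_isZero hz)
  obtain ⟨s, hsm, hs, hlift⟩ := Tower.exists_bound F hF hML
  -- every stable section comes from the limit
  have hsurj : ∀ (r : ℕ) (U : X.affineOpens) (y : Γ(F.obj (op (s r)), U.1)),
      ∃ l : Γ(limit F, U.1), (limit.π F (op r)).app U.1 l = (F.map (homOfLE (hs r)).op).app U.1 y := by
    intro r U y
    have step : ∀ (i : ℕ) (w : Γ(F.obj (op (s (r + i))), U.1)), ∃ w' : Γ(F.obj (op (s (r + (i + 1)))), U.1),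
        (F.map (homOfLE (Nat.le_succ (r + i))).op).app U.1 ((F.map (homOfLE (hs (r + (i + 1)))).op).app U.1 w') =
          (F.map (homOfLE (hs (r + i))).op).app U.1 w := by
      intro i w
      obtain ⟨w', hw'⟩ := hlift (r + i) (s (r + (i + 1))) (hsm (Nat.le_succ _)) U.2 w
      exact ⟨w', (Tower.fam_app F _ _ _ _).trans hw'⟩
    choose nx hnx using step
    let w : ∀ i, Γ(F.obj (op (s (r + i))), U.1) := fun i =>
      Nat.rec (motive := fun i => Γ(F.obj (op (s (r + i))), U.1)) y (fun i z => nx i z) i
    let b : ∀ i, Γ(F.obj (op (r + i)), U.1) := fun i => (F.map (homOfLE (hs (r + i))).op).app U.1 (w i)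
    have hb : ∀ i j (h : i ≤ j), (F.map (homOfLE (Nat.add_le_add_left h r)).op).app U.1 (b j) = b i := by
      intro i j h
      induction j, h using Nat.le_induction with
      | base => exact Tower.map_self_app F _ _ _
      | succ j h ih =>
        rw [← ih, show b j = (F.map (homOfLE (Nat.le_succ (r + j))).op).app U.1 (b (j + 1)) from
          (hnx j (w j)).symm]
        exact (Tower.fam_app F _ _ _ _).symm
    obtain ⟨l, hl⟩ := Main.exists_section_limit F U.1
      (fun n => (F.map (homOfLE (Nat.le_add_left n r)).op).app U.1 (b n))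
      (fun {n m} h => by
        show (F.map _).app U.1 ((F.map _).app U.1 (b m)) = (F.map _).app U.1 (b n)
        rw [← hb n m h]
        exact (Tower.fam_app F _ _ _ _).trans (Tower.fam_app F _ _ _ _).symm)
    refine ⟨l, (hl r).trans ?_⟩
    have := hb 0 r (Nat.zero_le r)
    exact this
  -- factor the transition maps through the limit
  have hfac : ∀ r, N ≤ r → ∃ w : F.obj (op (s r)) ⟶ limit F, w ≫ limit.π F (op r) = F.map (homOfLE (hs r)).op := by
    intro r hr
    haveI := hN r hr
    have h0 : F.map (homOfLE (hs r)).op ≫ cokernel.π (limit.π F (op r)) = 0 := by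
      refine Stalk.hom_ext_stalk fun x => ?_
      rw [Functor.map_comp, Functor.map_zero]
      ext v
      obtain ⟨V, hxV, y, rfl⟩ := (F.obj (op (s r))).presheaf.exists_germ_eq v
      obtain ⟨U, hUV, hxU⟩ := Groth.Agent.Lib.ClSub.Basis.exists_affine_le hxV
      obtain ⟨l, hl⟩ := hsurj r U ((F.obj (op (s r))).presheaf.map (homOfLE hUV).op y)
      rw [← TopCat.Presheaf.germ_res_apply (F.obj (op (s r))).presheaf (homOfLE hUV) x hxU y]
      show (Stalk.stalkFunctor X x).map (cokernel.π _) ((Stalk.stalkFunctor X x).map (F.map _) _) = 0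
      rw [Stalk.stalkFunctor_map_germ, ← hl, Stalk.stalkFunctor_map_germ,
        show (cokernel.π (limit.π F (op r))).app U.1 ((limit.π F (op r)).app U.1 l) =
          ((limit.π F (op r) ≫ cokernel.π (limit.π F (op r)))).app U.1 l from rfl, cokernel.condition]
      exact map_zero _
    exact ⟨Abelian.monoLift _ _ h0, Abelian.monoLift_comp _ _ h0⟩
  choose w hw using hfac
  let β : limit (F ⋙ T) ⟶ T.obj (limit F) := limit.π (F ⋙ T) (op (s N)) ≫ T.map (w N le_rfl)
  have hβ : β ≫ limit.post F T = 𝟙 _ := by
    refine limit.hom_ext fun j => ?_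
    obtain ⟨r⟩ := j
    rw [Category.assoc, limit.post_π, Category.id_comp, Category.assoc, ← T.map_comp]
    -- reduce to the stable range
    let r' := max N r
    have hr' : N ≤ r' := le_max_left _ _
    let m := max (s N) (s r')
    haveI := hN N le_rfl
    have hagree : F.map (homOfLE (le_max_left (s N) (s r'))).op ≫ w N le_rfl =
        F.map (homOfLE (le_max_right (s N) (s r'))).op ≫ w r' hr' := by
      rw [← cancel_mono (limit.π F (op N)), Category.assoc, hw, Category.assoc,
        ← limit.w F (homOfLE hr').op, ← Category.assoc (w r' hr'), hw, ← F.map_comp, ← F.map_comp,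
        ← F.map_comp]
      rfl
    rw [← limit.w F (homOfLE (le_max_right N r)).op, ← limit.w (F ⋙ T) (homOfLE (le_max_left (s N) (s r'))).op,
      Category.assoc]
    show limit.π (F ⋙ T) (op m) ≫ T.map _ ≫ T.map _ = _
    rw [← T.map_comp, ← Category.assoc (F.map _) (w N le_rfl), hagree, Category.assoc, ← Category.assoc (w r' hr'),
      hw, ← F.map_comp, ← F.map_comp]
    exact limit.w (F ⋙ T) _
  haveI : Epi (limit.post F T) := (SplitEpi.mk _ hβ).epi
  exact isIso_of_mono_of_epi _

end Groth.Agent.H68.LimQuot.TensorLim
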