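import Groth.Prelude.Def_W4c2derhamsingLim
import Groth.Prelude.Def_Coh
import Groth.Agent.H68.LimQuot.Image
import Groth.Agent.Lib.ClSub.Basis
import Mathlib.CategoryTheory.Abelian.Images
import Mathlib.Data.Nat.SuccPred

/-!
# Towers of quasi-coherent modules: sections, images, Mittag-Leffler
-/

set_option autoImplicit false
universe u

open CategoryTheory CategoryTheory.Limits AlgebraicGeometry Opposite TopologicalSpace
open Groth.Agent.Lib.QCoh Groth.Agent.Lib.QCoh.Localizing Groth.Agent.Lib.Modules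

namespace Groth.Agent.H68.LimQuot.Tower

variable {X : Scheme.{u}}

lemma fam_app {a b : ℕ} (F : ℕᵒᵖ ⥤ X.Modules) {c : ℕ} (h₁ : a ≤ b) (h₂ : b ≤ c) (U : X.Opens)
    (y : Γ(F.obj (op c), U)) :
    (F.map (homOfLE h₁).op).app U ((F.map (homOfLE h₂).op).app U y) =
      (F.map (homOfLE (h₁.trans h₂)).op).app U y := by
  rw [show (homOfLE (h₁.trans h₂)).op = (homOfLE h₂).op ≫ (homOfLE h₁).op from rfl, F.map_comp]
  rfl

lemma map_self_app (F : ℕᵒᵖ ⥤ X.Modules) {a : ℕ} (h : a ≤ a) (U : X.Opens) (y : Γ(F.obj (op a), U)) :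
    (F.map (homOfLE h).op).app U y = y := by
  rw [show (homOfLE h).op = 𝟙 (op a) from rfl, F.map_id]
  rfl

/-- Every family of sections is a section of the product. -/
lemma exists_section_pi (M : ℕ → X.Modules) (U : X.Opens) (s : ∀ n, Γ(M n, U)) :
    ∃ x : Γ(∏ᶜ M, U), ∀ n, (Pi.π M n).app U x = s n := by
  haveI : PreservesLimitsOfSize.{0, 0} (Closure.sectionsFunctor (X := X) U) :=
    preservesLimitsOfSize_shrink _
  haveI : PreservesLimitsOfSize.{0, 0} (forget AddCommGrpCat.{u}) := preservesLimitsOfSize_shrink _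
  have hl := isLimitOfPreserves (Closure.sectionsFunctor (X := X) U ⋙ forget AddCommGrpCat.{u})
    (productIsProduct M)
  let σ : (Discrete.functor M ⋙ Closure.sectionsFunctor (X := X) U ⋙ forget AddCommGrpCat.{u}).sections :=
    ⟨fun j => s j.as, fun {i j} f => by
      obtain ⟨i⟩ := i
      obtain ⟨j⟩ := j
      obtain rfl : i = j := Discrete.eq_of_hom f
      rw [show f = 𝟙 _ from Subsingleton.elim _ _, CategoryTheory.Functor.map_id]
      rfl⟩
  exact ⟨(Types.isLimitEquivSections hl).symm σ, fun n =>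
    Types.isLimitEquivSections_symm_apply hl σ ⟨n⟩⟩

lemma pi_ext (M : ℕ → X.Modules) (U : X.Opens) {a b : Γ(∏ᶜ M, U)}
    (h : ∀ n, (Pi.π M n).app U a = (Pi.π M n).app U b) : a = b := by
  haveI : PreservesLimitsOfSize.{0, 0} (Closure.sectionsFunctor (X := X) U) :=
    preservesLimitsOfSize_shrink _
  haveI : PreservesLimitsOfSize.{0, 0} (forget AddCommGrpCat.{u}) := preservesLimitsOfSize_shrink _
  have hl := isLimitOfPreserves (Closure.sectionsFunctor (X := X) U ⋙ forget AddCommGrpCat.{u})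
    (productIsProduct M)
  exact (Types.isLimitEquivSections hl).injective (Subtype.ext (funext fun j => h j.as))

lemma diff_app (F : ℕᵒᵖ ⥤ X.Modules) (U : X.Opens) (x : Γ(∏ᶜ fun n : ℕ => F.obj (op n), U)) (r : ℕ) :
    (Pi.π (fun n : ℕ => F.obj (op n)) r).app U ((LimSh.towerDiffSh F).app U x) =
      (Pi.π (fun n : ℕ => F.obj (op n)) r).app U x -
        (F.map (homOfLE (Nat.le_succ r)).op).app U ((Pi.π (fun n : ℕ => F.obj (op n)) (r + 1)).app U x) := by
  show ((LimSh.towerDiffSh F) ≫ Pi.π (fun n : ℕ => F.obj (op n)) r).app U x = _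
  rw [show (LimSh.towerDiffSh F) ≫ Pi.π (fun n : ℕ => F.obj (op n)) r = _ from Pi.lift_π _ r]
  rfl

variable {M N M' : X.Modules}

/-- A map killed on sections over affines by the cokernel of another factors through its image. -/
lemma imageSubobject_le_of_stalk (a : M ⟶ N) (b : M' ⟶ N)
    (h : ∀ (x : X) (v : M.presheaf.stalk x), ∃ w, (Stalk.stalkFunctor X x).map b w =
      (Stalk.stalkFunctor X x).map a v) :
    imageSubobject a ≤ imageSubobject b := by
  have h0 : a ≫ cokernel.π b = 0 := Stalk.hom_ext_stalk fun x => by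
    rw [Functor.map_comp, Functor.map_zero]
    ext v
    obtain ⟨w, hw⟩ := h x v
    show (Stalk.stalkFunctor X x).map (cokernel.π b) ((Stalk.stalkFunctor X x).map a v) = 0
    rw [← hw, ← ConcreteCategory.comp_apply, ← Functor.map_comp, cokernel.condition, Functor.map_zero]
    rfl
  refine imageSubobject_le a (kernel.lift (cokernel.π b) a h0 ≫ (Abelian.imageIsoImage b).hom ≫
    (imageSubobjectIso b).inv) ?_
  rw [Category.assoc, Category.assoc, imageSubobject_arrow']
  have : (Abelian.imageIsoImage b).hom ≫ image.ι b = kernel.ι (cokernel.π b) :=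
    (Abelian.imageStrongEpiMonoFactorisation b).toMonoIsImage.lift_fac (Image.monoFactorisation b)
  rw [this, kernel.lift_ι]

/-- Sections in a smaller image lift, on affines. -/
lemma exists_lift_of_le [M'.IsQuasicoherent] [N.IsQuasicoherent] (a : M ⟶ N) (b : M' ⟶ N)
    (h : imageSubobject a ≤ imageSubobject b) {U : X.Opens} (hU : IsAffineOpen U) (y : Γ(M, U)) :
    ∃ y' : Γ(M', U), b.app U y' = a.app U y := by
  let w : M ⟶ Limits.image b := factorThruImageSubobject a ≫ Subobject.ofLE _ _ h ≫ (imageSubobjectIso b).hom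
  have hw : w ≫ image.ι b = a := by
    simp [w]
  haveI := Image.isQCoh_image b
  obtain ⟨y', hy'⟩ := Closure.sections_surjective_of_epi (factorThruImage b) hU (w.app U y)
  refine ⟨y', ?_⟩
  calc b.app U y' = (factorThruImage b ≫ image.ι b).app U y' := by rw [image.fac]
    _ = (image.ι b).app U ((factorThruImage b).app U y') := rfl
    _ = (image.ι b).app U (w.app U y) := by rw [hy']
    _ = (w ≫ image.ι b).app U y := rfl
    _ = a.app U y := by rw [hw]

/-- The images in a Mittag-Leffler tower lift on affines. -/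
lemma exists_bound (F : ℕᵒᵖ ⥤ X.Modules) (hF : ∀ n : ℕ, (F.obj (op n)).IsQuasicoherent)
    (hML : ∀ n : ℕ, ∃ (m : ℕ) (hm : n ≤ m), ∀ (m' : ℕ) (hm' : m ≤ m'),
        imageSubobject (F.map (homOfLE (hm.trans hm')).op) = imageSubobject (F.map (homOfLE hm).op)) :
    ∃ s : ℕ → ℕ, Monotone s ∧ ∃ hs : ∀ n, n ≤ s n, ∀ (n m' : ℕ) (hm' : s n ≤ m') {U : X.Opens},
      IsAffineOpen U → ∀ y : Γ(F.obj (op (s n)), U), ∃ y' : Γ(F.obj (op m'), U),
        (F.map (homOfLE ((hs n).trans hm')).op).app U y' = (F.map (homOfLE (hs n)).op).app U y := by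
  haveI := hF
  choose m hm hst using hML
  refine ⟨fun n => (Finset.range (n + 1)).sup m, fun a b h =>
    Finset.sup_mono (Finset.range_subset_range.2 (Nat.succ_le_succ h)),
    fun n => (hm n).trans (Finset.le_sup (Finset.self_mem_range_succ n)), fun n m' hm' U hU y => ?_⟩
  have h1 : m n ≤ (Finset.range (n + 1)).sup m := Finset.le_sup (Finset.self_mem_range_succ n)
  exact exists_lift_of_le _ _ (((hst n _ h1).trans (hst n m' (h1.trans hm')).symm).le) hU y

/-- A Mittag-Leffler tower of quasi-coherent modules has vanishing `lim¹`. -/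
theorem isZero_limOne (F : ℕᵒᵖ ⥤ X.Modules) (hF : ∀ n : ℕ, (F.obj (op n)).IsQuasicoherent)
    (hML : ∀ n : ℕ, ∃ (m : ℕ) (hm : n ≤ m), ∀ (m' : ℕ) (hm' : m ≤ m'),
        imageSubobject (F.map (homOfLE (hm.trans hm')).op) = imageSubobject (F.map (homOfLE hm).op)) :
    IsZero (LimSh.limOneSh F) := by
  classical
  obtain ⟨s, hsm, hs, hlift⟩ := exists_bound F hF hML
  have : Epi (LimSh.towerDiffSh F) := by
    refine Groth.Agent.Lib.ClSub.Basis.epi_of_surjective_affine _ fun U y => ?_
    let yc (r : ℕ) : Γ(F.obj (op r), U.1) := (Pi.π (fun n : ℕ => F.obj (op n)) r).app U.1 y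
    let p (r i : ℕ) : Γ(F.obj (op r), U.1) :=
      if h : r ≤ i then (F.map (homOfLE h).op).app U.1 (yc i) else 0
    have hp : ∀ r i, r + 1 ≤ i → (F.map (homOfLE (Nat.le_succ r)).op).app U.1 (p (r + 1) i) = p r i := by
      intro r i h
      simp only [p, dif_pos h, dif_pos ((Nat.le_succ r).trans h)]
      exact fam_app F _ _ _ _
    let x' (r : ℕ) : Γ(F.obj (op r), U.1) := ∑ i ∈ Finset.Ico r (s r), p r i
    let G (r : ℕ) : AddSubgroup Γ(F.obj (op r), U.1) :=
      AddMonoidHom.range ((F.map (homOfLE (hs r)).op).app U.1).hom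
    have hres : ∀ r, yc r - x' r + (F.map (homOfLE (Nat.le_succ r)).op).app U.1 (x' (r + 1)) ∈ G r := by
      intro r
      have h1 : yc r + (F.map (homOfLE (Nat.le_succ r)).op).app U.1 (x' (r + 1)) =
          ∑ i ∈ Finset.Ico r (s (r + 1)), p r i := by
        rw [map_sum, Finset.sum_eq_sum_Ico_succ_bot (lt_of_lt_of_le (Nat.lt_succ_self r) (hs (r + 1)))]
        congr 1
        · simp only [p, dif_pos le_rfl]
          exact (map_self_app F _ _ _).symm
        · exact Finset.sum_congr rfl fun i hi => hp r i (Finset.mem_Ico.1 hi).1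
      rw [sub_add_eq_add_sub, h1, ← Finset.sum_Ico_consecutive _ (hs r) (hsm (Nat.le_succ r)),
        add_sub_cancel_left]
      refine AddSubgroup.sum_mem _ fun i hi => ?_
      have hi' := (Finset.mem_Ico.1 hi).1
      refine ⟨(F.map (homOfLE hi').op).app U.1 (yc i), ?_⟩
      simp only [p, dif_pos ((hs r).trans hi')]
      exact fam_app F _ _ _ _
    have hsurj : ∀ (r : ℕ) (u : G r), ∃ v : G (r + 1),
        (F.map (homOfLE (Nat.le_succ r)).op).app U.1 v.1 = u.1 := by
      rintro r ⟨u, w, rfl⟩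
      obtain ⟨w', hw'⟩ := hlift r (s (r + 1)) (hsm (Nat.le_succ r)) U.2 w
      exact ⟨⟨_, w', rfl⟩, (fam_app F _ _ _ _).trans hw'⟩
    choose v hv using hsurj
    let x'' : ∀ r, G r := fun r => Nat.rec (motive := fun r => G r) 0
      (fun r z => v r ⟨z.1 - (yc r - x' r + (F.map (homOfLE (Nat.le_succ r)).op).app U.1 (x' (r + 1))),
        sub_mem z.2 (hres r)⟩) r
    obtain ⟨x, hx⟩ := exists_section_pi (fun n : ℕ => F.obj (op n)) U.1 (fun r => x' r + (x'' r).1)
    refine ⟨x, ?_⟩
    refine pi_ext (fun n : ℕ => F.obj (op n)) U.1 fun r => ?_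
    rw [diff_app, hx, hx, map_add, show (F.map (homOfLE (Nat.le_succ r)).op).app U.1 (x'' (r + 1)).1 = _
      from hv r _]
    show x' r + (x'' r).1 - ((F.map (homOfLE (Nat.le_succ r)).op).app U.1 (x' (r + 1)) +
      ((x'' r).1 - (yc r - x' r + (F.map (homOfLE (Nat.le_succ r)).op).app U.1 (x' (r + 1))))) = yc r
    abel
  exact isZero_cokernel_of_epi _

end Groth.Agent.H68.LimQuot.Tower
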